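import Mathlib
import Groth.Agent.GrpShear
import Groth.Agent.SweepSix.FlatCancel
import Groth.Agent.DepthLib.SmoothBCScheme
import Groth.Agent.FinHomLib.Affine
import Groth.Agent.S4599
import Groth.Agent.S5223
import Groth.Agent.S0114
import Groth.Agent.S0115
import Groth.Agent.RichLib.QFLocusConstructible
import Groth.Agent.RichLib.LimitDescentProps

/-!
# Properties of equivariant morphisms propagate by translations
-/

set_option autoImplicit false
set_option backward.isDefEq.respectTransparency false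

noncomputable section

universe u

open CategoryTheory CategoryTheory.Limits MonoidalCategory CartesianMonoidalCategory AlgebraicGeometry
open scoped MonObj

namespace Groth.Agent.HomTransl

variable {S : Scheme.{u}} {G Y : Over S} [GrpObj G] (a : AlgGrp.Action G Y) (f : G ⟶ Y)

/-- The left translation shear of `G`. -/
abbrev φG : G ⊗ G ≅ G ⊗ G := GrpShear.shear (GrpShear.mulAction G) (𝟙 G)

/-- The shear of the action on `Y`. -/
abbrev φY : G ⊗ Y ≅ G ⊗ Y := GrpShear.shear a (𝟙 G)

theorem flat_snd [Flat G.hom] (Z : Over S) : Flat (snd G Z).left :=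
  MorphismProperty.pullback_snd (P := @Flat) G.hom Z.hom inferInstance

theorem lfp_snd [LocallyOfFinitePresentation G.hom] (Z : Over S) : LocallyOfFinitePresentation (snd G Z).left :=
  MorphismProperty.pullback_snd (P := @LocallyOfFinitePresentation) G.hom Z.hom inferInstance

theorem isPullback_snd : IsPullback (snd G G).left (G ◁ f).left f.left (snd G Y).left :=
  (FinHom.isPullback_whiskerLeft G f).flip

theorem isPullback_act (hf : μ[G] ≫ f = (G ◁ f) ≫ a.act) :
    IsPullback ((φG (G := G)).hom ≫ snd G G).left (G ◁ f).left f.left ((φY a).hom ≫ snd G Y).left := by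
  haveI : IsIso (φG (G := G)).hom.left := ((Over.forget _).mapIso (φG (G := G))).isIso_hom
  haveI : IsIso (φY a).hom.left := ((Over.forget _).mapIso (φY a)).isIso_hom
  have hsq : (φG (G := G)).hom ≫ (G ◁ f) = (G ◁ f) ≫ (φY a).hom := by
    refine CartesianMonoidalCategory.hom_ext _ _ (by simp [φG, φY, GrpShear.shear]) ?_
    have h1 : (φG (G := G)).hom ≫ snd G G = μ[G] := by
      simp [φG, GrpShear.shear, GrpShear.mulAction]
    have h2 : (φY a).hom ≫ snd G Y = a.act := by
      simp [φY, GrpShear.shear]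
    rw [Category.assoc, Category.assoc, h2, whiskerLeft_snd, reassoc_of% h1, hf]
  rw [Over.comp_left, Over.comp_left]
  refine IsPullback.paste_horiz (IsPullback.of_horiz_isIso ⟨?_⟩) (isPullback_snd f)
  rw [← Over.comp_left, ← Over.comp_left, hsq]

variable {a f}

/-- A point of `G × G` with given second coordinates before and after translation. -/
theorem exists_point (x₀ z : G.left) (h : G.hom.base x₀ = G.hom.base z) :
    ∃ p : ↥(G ⊗ G).left, (snd G G).left.base p = x₀ ∧ ((φG (G := G)).hom ≫ snd G G).left.base p = z := by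
  obtain ⟨v, hv1, hv2⟩ := Scheme.Pullback.exists_preimage_pullback (f := G.hom) (g := G.hom) x₀ z h
  let m : G ⊗ G ⟶ G ⊗ G := lift (snd G G * (fst G G)⁻¹) (fst G G)
  have hm : m ≫ (φG (G := G)).hom ≫ snd G G = snd G G := by
    have h1 : (φG (G := G)).hom ≫ snd G G = μ[G] := by
      simp [φG, GrpShear.shear, GrpShear.mulAction]
    rw [h1]
    show lift _ _ ≫ μ[G] = _
    rw [← Hom.mul_def, inv_mul_cancel_right]
  refine ⟨m.left.base v, ?_, ?_⟩
  · rw [← Scheme.Hom.comp_apply, ← Over.comp_left, lift_snd]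
    exact hv1
  · rw [← Scheme.Hom.comp_apply, ← Over.comp_left, hm]
    exact hv2

/-- The translation engine. -/
theorem propagate [Flat G.hom] (hf : μ[G] ≫ f = (G ◁ f) ≫ a.act)
    (P : ∀ {A B : Scheme.{u}}, (A ⟶ B) → A → Prop)
    (hbc : ∀ {F₂ X₁ : Scheme.{u}} (v : F₂ ⟶ G.left) (d : F₂ ⟶ X₁) (w : X₁ ⟶ Y.left) [Flat w],
      IsPullback v d f.left w → ∀ x : F₂, P d x ↔ P f.left (v.base x))
    (x₀ z : G.left) (h : G.hom.base x₀ = G.hom.base z) (hx : P f.left x₀) : P f.left z := by
  obtain ⟨p, hp₁, hp₂⟩ := exists_point x₀ z h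
  haveI := flat_snd (G := G) Y
  haveI : IsIso (φY a).hom.left := ((Over.forget _).mapIso (φY a)).isIso_hom
  haveI : Flat ((φY a).hom ≫ snd G Y).left := by
    rw [Over.comp_left]; infer_instance
  rw [← hp₂, ← hbc _ _ _ (isPullback_act a f hf) p, hbc _ _ _ (isPullback_snd f) p, hp₁]
  exact hx

theorem flatAt_propagate [Flat G.hom] (hf : μ[G] ≫ f = (G ◁ f) ≫ a.act) (x₀ z : G.left)
    (h : G.hom.base x₀ = G.hom.base z) (hx : (f.left.stalkMap x₀).hom.Flat) : (f.left.stalkMap z).hom.Flat :=
  propagate hf (fun g x => (g.stalkMap x).hom.Flat) (fun _ _ _ _ sq x => Groth.Agent.S5223.result sq x) x₀ z h hx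

theorem flat_of_flatAt [Flat G.hom] [Subsingleton ↥S] (hf : μ[G] ≫ f = (G ◁ f) ≫ a.act) (x₀ : G.left)
    (hx : (f.left.stalkMap x₀).hom.Flat) : Flat f.left :=
  (Flat.iff_flat_stalkMap f.left).mpr fun z => flatAt_propagate hf x₀ z (Subsingleton.elim _ _) hx

theorem lqf_of_open [Flat G.hom] [Subsingleton ↥S] [LocallyOfFiniteType f.left]
    (hf : μ[G] ≫ f = (G ◁ f) ≫ a.act) (W : G.left.Opens) (hW : (W : Set G.left).Nonempty)
    [LocallyQuasiFinite (W.ι ≫ f.left)] : LocallyQuasiFinite f.left := by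
  obtain ⟨x₀, hx₀⟩ := hW
  have hx : f.left.QuasiFiniteAt x₀ := by
    have h := (W.ι ≫ f.left).quasiFiniteAt ⟨x₀, hx₀⟩
    rwa [Scheme.Hom.quasiFiniteAt_comp_iff_of_isOpenImmersion] at h
  rw [← Scheme.Hom.quasiFiniteLocus_eq_top_iff]
  refine top_le_iff.mp fun z _ => ?_
  exact propagate hf (fun g x => g.QuasiFiniteAt x)
    (fun _ _ _ _ sq x => RichLib.QFLocus.quasiFiniteAt_iff_of_isPullback sq x) x₀ z (Subsingleton.elim _ _) hx

/-- Flatness of the diagonal at a point. -/
def DiagFlatAt {A B : Scheme.{u}} (g : A ⟶ B) (x : A) : Prop := ((pullback.diagonal g).stalkMap x).hom.Flat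

theorem diagFlatAt_iff {A B A' B' : Scheme.{u}} {v : A' ⟶ A} {d : A' ⟶ B'} {g : A ⟶ B} {w : B' ⟶ B}
    [Flat w] (sq : IsPullback v d g w) (x : A') : DiagFlatAt d x ↔ DiagFlatAt g (v.base x) := by
  haveI : Flat v := MorphismProperty.of_isPullback sq.flip inferInstance
  let M := pullback.map d d g g v v w sq.w.symm sq.w.symm
  have hout : IsPullback (M ≫ pullback.snd g g) (pullback.fst d d) g (v ≫ g) := by
    rw [show M ≫ pullback.snd g g = pullback.snd d d ≫ v from pullback.lift_snd _ _ _, sq.w]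
    exact (IsPullback.of_hasPullback d d).flip.paste_horiz sq
  have hM : IsPullback M (pullback.fst d d) (pullback.fst g g) v :=
    IsPullback.of_right hout (pullback.lift_fst _ _ _) (IsPullback.of_hasPullback g g).flip
  haveI : Flat M := MorphismProperty.of_isPullback hM.flip inferInstance
  exact Groth.Agent.S5223.result (RichLib.LimBC.isPullback_diagonal sq) x

theorem unramified_of_open [Flat G.hom] [Subsingleton ↥S] [LocallyOfFiniteType f.left]
    (hf : μ[G] ≫ f = (G ◁ f) ≫ a.act) (W : G.left.Opens) (hW : (W : Set G.left).Nonempty)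
    [FormallyUnramified (W.ι ≫ f.left)] : FormallyUnramified f.left := by
  obtain ⟨x₀, hx₀⟩ := hW
  have hx : DiagFlatAt f.left x₀ := by
    let e : pullback (W.ι ≫ f.left) (W.ι ≫ f.left) ⟶ pullback f.left f.left :=
      pullback.map _ _ _ _ W.ι W.ι (𝟙 _) (by simp) (by simp)
    haveI : IsOpenImmersion e := inferInstance
    have hc : W.ι ≫ pullback.diagonal f.left = pullback.diagonal (W.ι ≫ f.left) ≫ e :=
      pullback.comp_diagonal _ _
    haveI : Flat (W.ι ≫ pullback.diagonal f.left) := by rw [hc]; infer_instance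
    have h := (Flat.iff_flat_stalkMap (W.ι ≫ pullback.diagonal f.left)).mp inferInstance ⟨x₀, hx₀⟩
    rw [Scheme.Hom.stalkMap_comp] at h
    exact SweepSix.flat_of_comp _ (W.ι.stalkMap ⟨x₀, hx₀⟩).hom
      ((Flat.iff_flat_stalkMap W.ι).mp inferInstance _) h
  haveI : Flat (pullback.diagonal f.left) := (Flat.iff_flat_stalkMap _).mpr fun z =>
    propagate hf (fun g x => DiagFlatAt g x) (fun _ _ _ _ sq x => diagFlatAt_iff sq x) x₀ z
      (Subsingleton.elim _ _) hx
  haveI : LocallyOfFinitePresentation (pullback.diagonal f.left) := Groth.Agent.S4599.result f.left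
  haveI : IsOpenImmersion (pullback.diagonal f.left) := IsOpenImmersion.of_flat_of_mono _
  infer_instance

/-- The composite used for descent. -/
theorem exists_cover [Flat G.hom] [LocallyOfFinitePresentation G.hom] [Subsingleton ↥S]
    (hf : μ[G] ≫ f = (G ◁ f) ≫ a.act) (W : G.left.Opens) (hW : (W : Set G.left).Nonempty) :
    ∃ (V : Scheme.{u}) (π : V ⟶ G.left) (T : Scheme.{u}) (d : V ⟶ T) (q : T ⟶ Y.left) (T' : Scheme.{u})
      (e : T' ⟶ Y.left) (k : V ⟶ W.toScheme) (k' : T ⟶ T'),
      Surjective π ∧ Flat π ∧ LocallyOfFinitePresentation π ∧ π ≫ f.left = d ≫ q ∧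
      Flat q ∧ LocallyOfFinitePresentation q ∧ IsPullback k d (W.ι ≫ f.left) (k' ≫ e) := by
  haveI := flat_snd (G := G) Y
  haveI := lfp_snd (G := G) Y
  haveI := flat_snd (G := G) G
  haveI := lfp_snd (G := G) G
  haveI : IsIso (φG (G := G)).hom.left := ((Over.forget _).mapIso (φG (G := G))).isIso_hom
  haveI : IsIso (φY a).hom.left := ((Over.forget _).mapIso (φY a)).isIso_hom
  let V : (G ⊗ G).left.Opens := (snd G G).left ⁻¹ᵁ W
  refine ⟨V.toScheme, V.ι ≫ (φG (G := G)).hom.left ≫ (snd G G).left, (G ⊗ Y).left, V.ι ≫ (G ◁ f).left,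
    (φY a).hom.left ≫ (snd G Y).left, Y.left, 𝟙 _, (snd G G).left ∣_ W, (snd G Y).left, ?_, inferInstance,
    inferInstance, ?_, inferInstance, inferInstance, ?_⟩
  · refine ⟨fun z => ?_⟩
    obtain ⟨x₀, hx₀⟩ := hW
    obtain ⟨p, hp₁, hp₂⟩ := exists_point (G := G) x₀ z (Subsingleton.elim _ _)
    refine ⟨⟨p, show (snd G G).left.base p ∈ W from hp₁.symm ▸ hx₀⟩, ?_⟩
    rw [Scheme.Hom.comp_apply]
    exact hp₂
  · rw [Category.assoc, Category.assoc, Category.assoc]
    exact congrArg (V.ι ≫ ·) (by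
      have h := (isPullback_act a f hf).w
      rwa [Over.comp_left, Over.comp_left, Category.assoc] at h)
  · rw [Category.comp_id]
    exact (isPullback_morphismRestrict (snd G G).left W).paste_vert (isPullback_snd f)

theorem lfp_of_open [Flat G.hom] [LocallyOfFinitePresentation G.hom] [Subsingleton ↥S]
    (hf : μ[G] ≫ f = (G ◁ f) ≫ a.act) (W : G.left.Opens) (hW : (W : Set G.left).Nonempty)
    [LocallyOfFinitePresentation (W.ι ≫ f.left)] : LocallyOfFinitePresentation f.left := by
  obtain ⟨V, π, T, d, q, T', e, k, k', _, _, _, hc, _, _, sq⟩ := exists_cover hf W hW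
  haveI : LocallyOfFinitePresentation d := MorphismProperty.of_isPullback sq inferInstance
  haveI : LocallyOfFinitePresentation (π ≫ f.left) := by rw [hc]; infer_instance
  exact Groth.Agent.S0114.result π f.left

theorem smooth_of_open [Flat G.hom] [LocallyOfFinitePresentation G.hom] [Subsingleton ↥S]
    (hf : μ[G] ≫ f = (G ◁ f) ≫ a.act) (W : G.left.Opens) (hW : (W : Set G.left).Nonempty)
    [Smooth (W.ι ≫ f.left)] : Smooth f.left := by
  haveI := lfp_of_open hf W hW
  obtain ⟨x₀, hx₀⟩ := hW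
  have hx : x₀ ∈ f.left.smoothLocus := by
    have h : (⟨x₀, hx₀⟩ : W.toScheme) ∈ (W.ι ≫ f.left).smoothLocus := by
      rw [Scheme.Hom.smoothLocus_eq_top]; trivial
    rw [← Scheme.Hom.preimage_smoothLocus_eq] at h
    exact h
  refine Scheme.Hom.smoothLocus_eq_top_iff.mp (top_le_iff.mp fun z _ => ?_)
  obtain ⟨_, h⟩ := propagate hf (fun g x => ∃ _ : LocallyOfFinitePresentation g, x ∈ g.smoothLocus)
    (fun v d w _ sq x => by
      haveI : LocallyOfFinitePresentation d := MorphismProperty.of_isPullback sq inferInstance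
      have key := DepthLib.mem_smoothLocus_baseChange_scheme f.left w d v sq (Or.inr inferInstance) x
      exact ⟨fun ⟨_, h⟩ => ⟨inferInstance, key.mp h⟩, fun ⟨_, h⟩ => ⟨inferInstance, key.mpr h⟩⟩)
    x₀ z (Subsingleton.elim _ _) ⟨inferInstance, hx⟩
  exact h

theorem etale_of_open [Flat G.hom] [LocallyOfFinitePresentation G.hom] [Subsingleton ↥S]
    (hf : μ[G] ≫ f = (G ◁ f) ≫ a.act) (W : G.left.Opens) (hW : (W : Set G.left).Nonempty)
    [Etale (W.ι ≫ f.left)] : Etale f.left := by
  haveI := smooth_of_open hf W hW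
  haveI := unramified_of_open hf W hW
  exact Etale.iff_flat_and_formallyUnramified.mpr ⟨inferInstance, inferInstance, inferInstance⟩

/-- Homomorphisms are equivariant for the action through them. -/
def homAction {H : Over S} [GrpObj H] (u : G ⟶ H) [IsMonHom u] : AlgGrp.Action G H where
  act := (u ▷ H) ≫ μ[H]
  one_act := by simp [← comp_whiskerRight_assoc, IsMonHom.one_hom]
  mul_act := by
    simp [← comp_whiskerRight_assoc, IsMonHom.mul_hom, MonObj.mul_assoc, MonoidalCategory.tensorHom_def, whisker_exchange_assoc]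
    rw [← whiskerRight_tensor_assoc, associator_naturality_left_assoc, whisker_exchange_assoc]

theorem hom_equivariant {H : Over S} [GrpObj H] (u : G ⟶ H) [IsMonHom u] :
    μ[G] ≫ u = (G ◁ u) ≫ (homAction u).act := by
  show μ[G] ≫ u = (G ◁ u) ≫ (u ▷ H) ≫ μ[H]
  rw [IsMonHom.mul_hom, ← Category.assoc, ← tensorHom_def']

end Groth.Agent.HomTransl
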